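import Groth.Agent.Agf.RegularPoints
import Groth.Agent.FrobLCI.MinimalComplex
import Groth.Agent.Ega43FP2.SkScheme
import Groth.Agent.Ega43Geom.Pointwise
import Groth.Agent.S9437
import Groth.Agent.S2608
import Mathlib

/-!
Depth, dimension and regularity of stalks along a morphism smooth at a point.
-/

universe u

open AlgebraicGeometry CategoryTheory IsLocalRing

namespace Groth.Agent.Unram17SmoothLocal

/-- Stalk formulas for a smooth morphism. -/
theorem exists_depth_dim {X Y : Scheme.{u}} (g : X ⟶ Y) [Smooth g] [IsLocallyNoetherian Y] (x : X) :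
    ∃ d : ℕ, LocCoh.depth (X.presheaf.stalk x) (X.presheaf.stalk x) =
        LocCoh.depth (Y.presheaf.stalk (g x)) (Y.presheaf.stalk (g x)) + d ∧
      ringKrullDim (X.presheaf.stalk x) = ringKrullDim (Y.presheaf.stalk (g x)) + (d : WithBot ℕ∞) ∧
      (IsRegularLocalRing (Y.presheaf.stalk (g x)) → IsRegularLocalRing (X.presheaf.stalk x)) := by
  haveI : IsLocallyNoetherian X := LocallyOfFiniteType.isLocallyNoetherian g
  haveI : IsRegularLocalRing (CInt.fiberStalk g x) :=
    Groth.CMMor.isRegularLocalRing_stalk_fiber g (g x) (g.asFiber x)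
  obtain ⟨d, hd⟩ : ∃ d : ℕ, ringKrullDim (CInt.fiberStalk g x) = d :=
    ⟨_, ((isRegularLocalRing_iff (CInt.fiberStalk g x)).1 inferInstance).symm⟩
  refine ⟨d, ?_, ?_, fun h => Groth.Agf.RegularPoints.isRegularLocalRing_stalk_of_smooth g x⟩
  · rw [Groth.Ega4b.depth_stalk_eq_add g x, Groth.FrobLCI.depth_eq_of_isRegularLocalRing _ hd]
  · let _ := (g.stalkMap x).hom.toAlgebra
    haveI : IsLocalHom (algebraMap (Y.presheaf.stalk (g x)) (X.presheaf.stalk x)) :=
      inferInstanceAs (IsLocalHom (g.stalkMap x).hom)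
    haveI : Module.Flat (Y.presheaf.stalk (g x)) (X.presheaf.stalk x) := Flat.stalkMap g x
    obtain ⟨e⟩ := Groth.Ega4b.nonempty_fiberStalk_equiv g x
    haveI : IsLocalRing (X.presheaf.stalk x ⧸
        (maximalIdeal (Y.presheaf.stalk (g x))).map
          (algebraMap (Y.presheaf.stalk (g x)) (X.presheaf.stalk x))) := e.symm.isLocalRing
    rw [Groth.Calg4.ringKrullDim_eq_add_of_flat (Y.presheaf.stalk (g x)) (X.presheaf.stalk x),
      ringKrullDim_eq_of_ringEquiv (R := X.presheaf.stalk x ⧸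
        (maximalIdeal (Y.presheaf.stalk (g x))).map
          (algebraMap (Y.presheaf.stalk (g x)) (X.presheaf.stalk x))) (S := CInt.fiberStalk g x) e, hd]

/-- The same formulas at a point of a smooth open piece. -/
theorem exists_depth_dim_of_mem {X Y : Scheme.{u}} (f : X ⟶ Y) [IsLocallyNoetherian Y]
    (U : X.Opens) [Smooth (U.ι ≫ f)] (x : X) (hx : x ∈ U) :
    ∃ d : ℕ, LocCoh.depth (X.presheaf.stalk x) (X.presheaf.stalk x) =
        LocCoh.depth (Y.presheaf.stalk (f.base x)) (Y.presheaf.stalk (f.base x)) + d ∧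
      ringKrullDim (X.presheaf.stalk x) = ringKrullDim (Y.presheaf.stalk (f.base x)) + (d : WithBot ℕ∞) ∧
      (IsRegularLocalRing (Y.presheaf.stalk (f.base x)) → IsRegularLocalRing (X.presheaf.stalk x)) := by
  let y : U.toScheme := ⟨x, hx⟩
  obtain ⟨d, h1, h2, h3⟩ := exists_depth_dim (U.ι ≫ f) y
  let e : U.toScheme.presheaf.stalk y ≃+* X.presheaf.stalk x :=
    (U.stalkIso y).commRingCatIsoToRingEquiv
  refine ⟨d, ?_, ?_, fun h => ?_⟩
  · rw [← Groth.Ega4b.depth_eq_of_ringEquiv e]; exact h1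
  · rw [← ringKrullDim_eq_of_ringEquiv e]; exact h2
  · haveI := h3 h
    exact IsRegularLocalRing.of_ringEquiv e

end Groth.Agent.Unram17SmoothLocal
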